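import Mathlib.RingTheory.Smooth.Basic
import Mathlib.RingTheory.Etale.Basic
import Mathlib.RingTheory.Kaehler.JacobiZariski

/-!
# Smoothness in towers through the differentials of the base
-/

set_option autoImplicit false

universe u

open TensorProduct KaehlerDifferential

namespace Groth.Agent.TowerSmooth5

variable (A B T : Type u) [CommRing A] [CommRing B] [CommRing T] [Algebra A B] [Algebra B T] [Algebra A T]
  [IsScalarTower A B T] [Algebra.FormallySmooth A T]

theorem subsingleton_h1_iff : Subsingleton (Algebra.H1Cotangent B T) ↔ Function.Injective (mapBaseChange A B T) := by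
  constructor
  · intro h
    rw [injective_iff_map_eq_zero]
    intro z hz
    obtain ⟨w, rfl⟩ := (Algebra.H1Cotangent.exact_δ_mapBaseChange A B T z).1 hz
    rw [Subsingleton.elim w 0, map_zero]
  · intro h
    refine ⟨fun a b => sub_eq_zero.1 ?_⟩
    have h1 : Algebra.H1Cotangent.δ A B T (a - b) = 0 := h (by
      rw [(Algebra.H1Cotangent.exact_δ_mapBaseChange A B T).apply_apply_eq_zero, map_zero])
    obtain ⟨w, hw⟩ := (Algebra.H1Cotangent.exact_map_δ A B T (a - b)).1 h1
    rw [← hw, Subsingleton.elim w 0, map_zero]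

theorem formallySmooth_iff : Algebra.FormallySmooth B T ↔
    ∃ r : Ω[T⁄A] →ₗ[T] T ⊗[B] Ω[B⁄A], r ∘ₗ mapBaseChange A B T = LinearMap.id := by
  have hex := exact_mapBaseChange_map A B T
  constructor
  · intro _
    obtain ⟨s, hs⟩ := Module.projective_lifting_property (map A B T T) LinearMap.id (map_surjective A B T)
    have hf : Function.Injective (mapBaseChange A B T) := (subsingleton_h1_iff A B T).1 inferInstance
    have h12 := (hex.split_tfae' (f := mapBaseChange A B T) (g := map A B T T)).out 0 1 rfl rfl
    exact (h12.1 ⟨hf, s, hs⟩).2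
  · rintro ⟨r, hr⟩
    have hf : Function.Injective (mapBaseChange A B T) :=
      Function.LeftInverse.injective (g := r) (LinearMap.congr_fun hr)
    refine ⟨?_, (subsingleton_h1_iff A B T).2 hf⟩
    have h21 := (hex.split_tfae' (f := mapBaseChange A B T) (g := map A B T T)).out 1 0 rfl rfl
    obtain ⟨-, s, hs⟩ := h21.1 ⟨map_surjective A B T, r, hr⟩
    exact Module.Projective.of_split s (map A B T T) hs

theorem formallyEtale_iff : Algebra.FormallyEtale B T ↔ Function.Bijective (mapBaseChange A B T) := by
  have hex := exact_mapBaseChange_map A B T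
  constructor
  · intro _
    refine ⟨(subsingleton_h1_iff A B T).1 inferInstance, fun z => (hex z).1 (Subsingleton.elim _ _)⟩
  · intro h
    refine ⟨⟨fun a b => ?_⟩, (subsingleton_h1_iff A B T).2 h.1⟩
    obtain ⟨a, rfl⟩ := map_surjective A B T a
    obtain ⟨b, rfl⟩ := map_surjective A B T b
    obtain ⟨a, rfl⟩ := h.2 a
    obtain ⟨b, rfl⟩ := h.2 b
    rw [hex.apply_apply_eq_zero, hex.apply_apply_eq_zero]

end Groth.Agent.TowerSmooth5
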